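import Cfsg.Agent.CompBasic
import Cfsg.Agent.H76.Basic
import Cfsg.Agent.H6.Extraspecial
import Cfsg.Agent.H85.BrauerSuzuki
import Cfsg.Prelude.Def_SporadicB

/-!
In a simple group with a 2-central involution `t` and `C(t)/E ≅ A₅`, `E` extraspecial of order 32, the
group `E` contains its centraliser and is of minus type.
-/

set_option autoImplicit false

namespace H1.J3

open Subgroup
open scoped commutatorElement

section Thirtytwo

variable {Q : Type*} [Group Q] [Finite Q]

theorem center_cases (hX : Cfsg.IsExtraspecial 2 Q) {z w : Q} (hz : z ∈ center Q) (hz1 : z ≠ 1)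
    (hw : w ∈ center Q) : w = 1 ∨ w = z := by
  obtain ⟨y, -, hy⟩ := (Nat.card_eq_two_iff' (1 : center Q)).mp hX.2
  by_cases h1 : w = 1
  · exact Or.inl h1
  · exact Or.inr (congrArg Subtype.val
      ((hy ⟨w, hw⟩ fun e => h1 (congrArg Subtype.val e)).trans
        (hy ⟨z, hz⟩ fun e => hz1 (congrArg Subtype.val e)).symm))

/-- The commutator homomorphism of an element. -/
def commHom (hX : Cfsg.IsExtraspecial 2 Q) (x : Q) : Q →* center Q :=
  MonoidHom.mk' (fun y => ⟨⁅x, y⁆, H6.extraspecial_commutator_mem_center hX x y⟩) fun y y' =>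
    Subtype.ext (by
      show ⁅x, y * y'⁆ = ⁅x, y⁆ * ⁅x, y'⁆
      have h : ⁅x, y * y'⁆ = ⁅x, y⁆ * (y * ⁅x, y'⁆ * y⁻¹) := by
        simp only [commutatorElement_def]; group
      rw [h, Subgroup.mem_center_iff.mp (H6.extraspecial_commutator_mem_center hX x y') y,
        mul_inv_cancel_right])

theorem commHom_coe (hX : Cfsg.IsExtraspecial 2 Q) (x y : Q) : (commHom hX x y : Q) = ⁅x, y⁆ := rfl

theorem index_commHom_ker (hX : Cfsg.IsExtraspecial 2 Q) (x : Q) :
    Nat.card Q ≤ 2 * Nat.card (commHom hX x).ker := by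
  rw [← card_mul_index (commHom hX x).ker, index_ker, mul_comm 2]
  exact Nat.mul_le_mul_left _ ((card_le_card_group _).trans (le_of_eq hX.2))

theorem no_abelian_sixteen (hX : Cfsg.IsExtraspecial 2 Q) (h32 : Nat.card Q = 32) (B : Subgroup Q)
    (hB : ∀ a ∈ B, ∀ b ∈ B, a * b = b * a) : Nat.card B < 16 := by
  by_contra hc
  push Not at hc
  have hd : Nat.card B ∣ 2 ^ 5 := by
    rw [show (2 : ℕ) ^ 5 = 32 from rfl, ← h32]
    exact card_subgroup_dvd_card B
  obtain ⟨i, hi, hBi⟩ := (Nat.dvd_prime_pow Nat.prime_two).mp hd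
  by_cases htop : B = ⊤
  · have : center Q = ⊤ := eq_top_iff.mpr fun a _ => mem_center_iff.mpr fun b =>
      hB b (htop ▸ mem_top b) a (htop ▸ mem_top a)
    have h2 := hX.2
    rw [this, Subgroup.card_top, h32] at h2
    omega
  obtain ⟨x, -, hxB⟩ := SetLike.exists_of_lt (lt_top_iff_ne_top.mpr htop)
  set K := B ⊓ (commHom hX x).ker
  have hK : 8 ≤ Nat.card K := by
    have h1 : K.relIndex B ≤ 2 := by
      rw [show K.relIndex B = (commHom hX x).ker.relIndex B from inf_relIndex_left _ _]
      refine le_trans (Nat.le_of_dvd ?_ (relIndex_dvd_index_of_normal _ _)) ?_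
      · exact Nat.pos_of_ne_zero index_ne_zero_of_finite
      · rw [index_ker]
        exact (card_le_card_group _).trans (le_of_eq hX.2)
    have h2 : Nat.card K * K.relIndex B = Nat.card B := by
      rw [relIndex, ← Nat.card_congr (subgroupOfEquivOfLe (inf_le_left : K ≤ B)).toEquiv,
        card_mul_index]
    nlinarith
  have hBx : closure ((B : Set Q) ∪ {x}) = ⊤ := by
    have hle : B < closure ((B : Set Q) ∪ {x}) :=
      lt_of_le_of_ne (fun b hb => subset_closure (Or.inl hb))
        fun e => hxB (e ▸ subset_closure (Or.inr rfl))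
    refine eq_top_of_card_eq _ ?_
    have hlt : Nat.card B < Nat.card ↥(closure ((B : Set Q) ∪ {x})) := by
      by_contra hn
      push Not at hn
      exact hle.ne (Subgroup.eq_of_le_of_card_ge hle.le hn)
    obtain ⟨j, hj, hj'⟩ := (Nat.dvd_prime_pow Nat.prime_two).mp
      (show Nat.card ↥(closure ((B : Set Q) ∪ {x})) ∣ 2 ^ 5 by
        rw [show (2 : ℕ) ^ 5 = 32 from rfl, ← h32]
        exact card_subgroup_dvd_card _)
    rw [h32]
    interval_cases j <;> omega
  have hKc : K ≤ center Q := by
    intro k hk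
    rw [mem_center_iff]
    intro q
    have hq : q ∈ centralizer ({k} : Set Q) := by
      have hle : closure ((B : Set Q) ∪ {x}) ≤ centralizer ({k} : Set Q) := by
        rw [closure_le]
        rintro y (hy | hy)
        · exact mem_centralizer_singleton_iff.mpr (hB y hy k hk.1)
        · rw [Set.mem_singleton_iff.mp hy]
          exact mem_centralizer_singleton_iff.mpr
            (commutatorElement_eq_one_iff_mul_comm.mp (congrArg Subtype.val hk.2))
      exact hle (hBx ▸ mem_top q)
    exact mem_centralizer_singleton_iff.mp hq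
  have := Nat.le_of_dvd Nat.card_pos (card_dvd_of_le hKc)
  rw [hX.2] at this
  omega

theorem card_invol_of_elementary (hX : Cfsg.IsExtraspecial 2 Q) (h32 : Nat.card Q = 32) (A : Subgroup Q)
    (hAc : ∀ a ∈ A, ∀ b ∈ A, a * b = b * a) (hA2 : ∀ a ∈ A, a * a = 1) (hA8 : 8 ≤ Nat.card A) :
    Nat.card {q : Q // q * q = 1} = 20 := by
  classical
  haveI := Fintype.ofFinite Q
  have hA : Nat.card A = 8 := by
    have h1 := no_abelian_sixteen hX h32 A hAc
    have h2 : Nat.card A ∣ 32 := h32 ▸ card_subgroup_dvd_card A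
    interval_cases h : Nat.card A <;> norm_num at h2
    rfl
  obtain ⟨⟨z, hz⟩, hz1⟩ : ∃ c : center Q, c ≠ 1 := by
    haveI : Nontrivial (center Q) := Finite.one_lt_card_iff_nontrivial.mp (by rw [hX.2]; norm_num)
    exact exists_ne 1
  have hz1' : z ≠ 1 := fun e => hz1 (Subtype.ext e)
  have hsq : ∀ x : Q, x * x ∈ center Q := fun x => by
    rw [← hX.1.2.1, ← pow_two]
    exact H76.pow_mem_frattini hX.1.1 x
  -- each coset outside `A` has four involutions
  set T := (Finset.univ : Finset Q).filter fun a => a ∈ A with hT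
  set S := (Finset.univ : Finset Q).filter fun q => q ∉ A with hS
  set I := S.filter fun q => q * q = 1 with hI
  have hTc : T.card = 8 := by
    rw [hT, ← Fintype.card_subtype, ← Nat.card_eq_fintype_card]
    exact hA
  have hSc : S.card = 24 := by
    have h1 := Finset.card_filter_add_card_filter_not (s := (Finset.univ : Finset Q)) (fun a => a ∈ A)
    rw [← hT, ← hS, hTc, Finset.card_univ, ← Nat.card_eq_fintype_card, h32] at h1
    omega
  have four : ∀ x ∈ S, (T.filter fun a => (x * a) * (x * a) = 1).card = 4 := by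
    intro x hx
    simp only [hS, Finset.mem_filter, Finset.mem_univ, true_and] at hx
    obtain ⟨b, hb, hbx⟩ : ∃ b ∈ A, ⁅x, b⁆ ≠ 1 := by
      by_contra hc
      push Not at hc
      have hcomm : ∀ p ∈ (A : Set Q) ∪ {x}, ∀ q ∈ (A : Set Q) ∪ {x}, p * q = q * p := by
        rintro p (hp | hp) q (hq | hq)
        · exact hAc p hp q hq
        · rw [Set.mem_singleton_iff.mp hq]
          exact (commutatorElement_eq_one_iff_mul_comm.mp (hc p hp)).symm
        · rw [Set.mem_singleton_iff.mp hp]
          exact commutatorElement_eq_one_iff_mul_comm.mp (hc q hq)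
        · rw [Set.mem_singleton_iff.mp hp, Set.mem_singleton_iff.mp hq]
      have := no_abelian_sixteen hX h32 (closure ((A : Set Q) ∪ {x})) fun p hp q hq => by
        haveI := isMulCommutative_closure hcomm
        exact congrArg Subtype.val (mul_comm' (⟨p, hp⟩ : closure ((A : Set Q) ∪ {x})) ⟨q, hq⟩)
      have hle : A < closure ((A : Set Q) ∪ {x}) :=
        lt_of_le_of_ne (fun a ha => subset_closure (Or.inl ha))
          fun e => hx (e ▸ subset_closure (Or.inr rfl))
      obtain ⟨j, hj, hj'⟩ := (Nat.dvd_prime_pow Nat.prime_two).mp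
        (show Nat.card ↥(closure ((A : Set Q) ∪ {x})) ∣ 2 ^ 5 by
          rw [show (2 : ℕ) ^ 5 = 32 from rfl, ← h32]
          exact card_subgroup_dvd_card _)
      have hlt : Nat.card A < Nat.card ↥(closure ((A : Set Q) ∪ {x})) := by
        by_contra hn
        push Not at hn
        exact hle.ne (Subgroup.eq_of_le_of_card_ge hle.le hn)
      interval_cases j <;> omega
    -- right translation by `b` swaps the two classes
    have key : ∀ a ∈ A, (x * a) * (x * a) = x * x * ⁅x, a⁆ := by
      intro a ha
      have hc := H6.extraspecial_commutator_mem_center hX x a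
      have h1 : a * x = ⁅x, a⁆ * (x * a) := by
        have h2 : ⁅a, x⁆ = ⁅x, a⁆ := by
          have h3 : ⁅x, a⁆ * ⁅x, a⁆ = 1 := by
            rcases center_cases hX hz hz1' hc with h | h
            · rw [h, one_mul]
            · rcases center_cases hX hz hz1' (hsq z) with h' | h'
              · rw [h, h']
              · exact absurd (mul_eq_left.mp h') hz1'
          rw [← commutatorElement_inv, inv_eq_of_mul_eq_one_right h3]
        rw [← h2, commutatorElement_def]; group
      calc (x * a) * (x * a) = x * (a * x) * a := by group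
        _ = x * (⁅x, a⁆ * (x * a)) * a := by rw [h1]
        _ = x * ⁅x, a⁆ * x * (a * a) := by group
        _ = ⁅x, a⁆ * x * x := by rw [hA2 a ha, mul_one, mem_center_iff.mp hc x]
        _ = x * x * ⁅x, a⁆ := by rw [mem_center_iff.mp hc (x * x), mul_assoc]
    have hflip : ∀ a ∈ A, ((x * (a * b)) * (x * (a * b)) = 1 ↔ ¬ (x * a) * (x * a) = 1) := by
      intro a ha
      rw [key a ha, key _ (mul_mem ha hb), ← commHom_coe hX x (a * b), map_mul, Subgroup.coe_mul,
        commHom_coe, commHom_coe, ← mul_assoc]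
      have hu : x * x * ⁅x, a⁆ ∈ center Q := mul_mem (hsq x) (H6.extraspecial_commutator_mem_center hX x a)
      have hbz : ⁅x, b⁆ = z := (center_cases hX hz hz1'
        (H6.extraspecial_commutator_mem_center hX x b)).resolve_left hbx
      rw [hbz]
      rcases center_cases hX hz hz1' hu with h | h <;> rw [h]
      · simp [hz1']
      · rcases center_cases hX hz hz1' (hsq z) with h' | h'
        · simp [h', hz1']
        · exact absurd (mul_eq_left.mp h') hz1'
    have hequiv : (T.filter fun a => (x * a) * (x * a) = 1).card =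
        (T.filter fun a => ¬ (x * a) * (x * a) = 1).card := by
      refine Finset.card_bij' (fun a _ => a * b) (fun a _ => a * b⁻¹) ?_ ?_ ?_ ?_
      · intro a ha
        simp only [hT, Finset.mem_filter, Finset.mem_univ, true_and] at ha ⊢
        exact ⟨mul_mem ha.1 hb, fun h => (hflip a ha.1).mp h ha.2⟩
      · intro a ha
        simp only [hT, Finset.mem_filter, Finset.mem_univ, true_and] at ha ⊢
        refine ⟨mul_mem ha.1 (inv_mem hb), ?_⟩
        have h2 := hflip (a * b⁻¹) (mul_mem ha.1 (inv_mem hb))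
        rw [inv_mul_cancel_right] at h2
        by_contra h3
        exact ha.2 (h2.mpr h3)
      · intro a _; simp
      · intro a _; simp
    have h1 := Finset.card_filter_add_card_filter_not (s := T) (fun a => (x * a) * (x * a) = 1)
    omega
  have count : ∑ x ∈ S, (T.filter fun a => (x * a) * (x * a) = 1).card = 8 * I.card := by
    have h1 : ∀ x ∈ S, (T.filter fun a => (x * a) * (x * a) = 1).card =
        ∑ a ∈ T, if (x * a) * (x * a) = 1 then 1 else 0 := fun x _ => Finset.card_filter _ _
    rw [Finset.sum_congr rfl h1, Finset.sum_comm]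
    have h2 : ∀ a ∈ T, (∑ x ∈ S, if (x * a) * (x * a) = 1 then 1 else 0) = I.card := by
      intro a ha
      rw [← Finset.card_filter, hI]
      simp only [hT, Finset.mem_filter, Finset.mem_univ, true_and] at ha
      refine Finset.card_bij' (fun x _ => x * a) (fun x _ => x * a⁻¹) ?_ ?_ ?_ ?_
      · intro x hx
        simp only [hS, Finset.mem_filter, Finset.mem_univ, true_and] at hx ⊢
        exact ⟨fun h => hx.1 ((mul_mem_cancel_right ha).mp h), hx.2⟩
      · intro x hx
        simp only [hS, Finset.mem_filter, Finset.mem_univ, true_and] at hx ⊢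
        exact ⟨fun h => hx.1 ((mul_mem_cancel_right (inv_mem ha)).mp h), by simpa using hx.2⟩
      · intro x _; simp
      · intro x _; simp
    rw [Finset.sum_congr rfl h2, Finset.sum_const, hTc, smul_eq_mul]
  rw [Finset.sum_congr rfl four, Finset.sum_const, hSc, smul_eq_mul] at count
  rw [Nat.card_eq_fintype_card, Fintype.card_subtype]
  have hsplit := Finset.card_filter_add_card_filter_not
    (s := (Finset.univ : Finset Q).filter fun q => q * q = 1) (fun q => q ∈ A)
  have e1 : (((Finset.univ : Finset Q).filter fun q => q * q = 1).filter fun q => q ∈ A) = T := by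
    ext q
    simp only [hT, Finset.mem_filter, Finset.mem_univ, true_and]
    exact ⟨And.right, fun h => ⟨hA2 q h, h⟩⟩
  have e2 : (((Finset.univ : Finset Q).filter fun q => q * q = 1).filter fun q => ¬ q ∈ A) = I := by
    ext q
    simp only [hI, hS, Finset.mem_filter, Finset.mem_univ, true_and]
    exact And.comm
  rw [e1, e2, hTc] at hsplit
  omega

/-- An automorphism of order dividing five fixing more than two elements is trivial. -/
theorem fixed_all (h32 : Nat.card Q = 32) (σ : MulAut Q) (h5 : σ ^ 5 = 1) {a b : Q} (hab : a ≠ b)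
    (ha1 : a ≠ 1) (hb1 : b ≠ 1) (ha : σ a = a) (hb : σ b = b) : σ = 1 := by
  classical
  haveI := Fintype.ofFinite Q
  haveI : Fact (Nat.Prime 5) := ⟨by norm_num⟩
  let F : Subgroup Q :=
    { carrier := {q | σ q = q}
      one_mem' := map_one σ
      mul_mem' := fun {p q} hp hq => by
        show σ (p * q) = p * q
        rw [map_mul, hp, hq]
      inv_mem' := fun {p} hp => by
        show σ p⁻¹ = p⁻¹
        rw [map_inv, hp] }
  have h3 : 3 ≤ Nat.card F := by
    rw [Nat.card_eq_fintype_card, Fintype.card_subtype]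
    refine le_trans (le_of_eq ?_) (Finset.card_le_card (s := {1, a, b}) ?_)
    · rw [Finset.card_insert_of_notMem (by simp [ha1.symm, hb1.symm]), Finset.card_pair hab]
    · intro q hq
      simp only [Finset.mem_insert, Finset.mem_singleton] at hq
      simp only [Finset.mem_filter, Finset.mem_univ, true_and]
      rcases hq with rfl | rfl | rfl
      exacts [F.one_mem, ha, hb]
  let f : Function.End Q := (σ : Q → Q)
  have hf : f ^ 5 ^ 1 = 1 := by
    funext q
    have : ∀ n : ℕ, (f ^ n) q = (σ ^ n) q := by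
      intro n
      induction n with
      | zero => rfl
      | succ n ih => rw [pow_succ', pow_succ', MulAut.mul_apply]; exact congrArg σ ih
    rw [pow_one, this, h5]
    rfl
  have hmod := Equiv.Perm.card_fixedPoints_modEq (f := f) (p := 5) (n := 1) hf
  have hcF : Fintype.card f.fixedPoints = Nat.card F := by
    rw [← Nat.card_eq_fintype_card]
    exact Nat.card_congr (Equiv.subtypeEquivRight fun q => Iff.rfl)
  rw [hcF, ← Nat.card_eq_fintype_card, h32, Nat.ModEq] at hmod
  have hd : Nat.card F ∣ 32 := h32 ▸ card_subgroup_dvd_card F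
  have hF : Nat.card F = 32 := by
    have hle := Nat.le_of_dvd (by norm_num) hd
    interval_cases h : Nat.card F <;> omega
  have htop : F = ⊤ := eq_top_of_card_eq _ (hF.trans h32.symm)
  ext q
  exact show q ∈ F from htop ▸ mem_top q

end Thirtytwo

variable {G : Type*} [Group G] [Finite G]

/-- The reduction, with the centraliser abstracted. -/
theorem reduce_aux [IsSimpleGroup G] (t : G) (ht : Cfsg.IsTwoCentralInvolution t) (C : Subgroup G)
    (hC : C = Subgroup.centralizer ({t} : Set G)) (E : Subgroup C) [E.Normal]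
    (hX : Cfsg.IsExtraspecial 2 E) (hcard : Nat.card E = 32)
    (e : C ⧸ E ≃* alternatingGroup (Fin 5)) :
    (∀ A : Subgroup E, Cfsg.IsElementaryAbelian 2 A → Nat.card A ≤ 2 ^ 2) ∧
      Subgroup.centralizer (E : Set C) ≤ E := by
  classical
  haveI : Fact (Nat.Prime 2) := ⟨Nat.prime_two⟩
  haveI : Fact (Nat.Prime 5) := ⟨by norm_num⟩
  let χ : C →* alternatingGroup (Fin 5) := e.toMonoidHom.comp (QuotientGroup.mk' E)
  have hker : ∀ x, χ x = 1 ↔ x ∈ E := fun x => by
    show e (QuotientGroup.mk' E x) = 1 ↔ x ∈ E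
    rw [map_eq_one_iff _ e.injective]
    exact QuotientGroup.eq_one_iff x
  have hsurj : Function.Surjective χ := e.surjective.comp (QuotientGroup.mk'_surjective E)
  have ht1 : t ≠ 1 := fun q => by have := ht.1; rw [q, orderOf_one] at this; omega
  set tc : C := ⟨t, hC ▸ mem_centralizer_singleton_iff.mpr rfl⟩ with htc
  have htcc : ∀ x : C, x * tc = tc * x := fun x => Subtype.ext (mem_centralizer_singleton_iff.mp (show (x : G) ∈ Subgroup.centralizer ({t} : Set G) from hC ▸ x.2))
  have htE : tc ∈ E := by
    refine (hker tc).mp ?_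
    have hA5c : ∀ a : alternatingGroup (Fin 5), (∀ b, b * a = a * b) → a = 1 := by decide +kernel
    exact hA5c _ fun b => by
      obtain ⟨x, rfl⟩ := hsurj b
      rw [← map_mul, htcc, map_mul]
  have htord : orderOf t = 2 := ht.1
  have htEc : (⟨tc, htE⟩ : E) ∈ center E := mem_center_iff.mpr fun r => Subtype.ext (htcc r)
  have htE1 : (⟨tc, htE⟩ : E) ≠ 1 := fun q =>
    ht1 (congrArg (fun r : E => ((r : C) : G)) q)
  have hcen : ∀ u ∈ E, (∀ r ∈ E, r * u = u * r) → u = 1 ∨ u = tc := by
    intro u hu huc
    rcases center_cases hX htEc htE1 (w := ⟨u, hu⟩)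
      (mem_center_iff.mpr fun r => Subtype.ext (huc r r.2)) with h | h
    · exact Or.inl (congrArg Subtype.val h)
    · exact Or.inr (congrArg Subtype.val h)
  have h2c : centralizer (E : Set C) ≤ E := by
    by_contra hL
    haveI hLn : (centralizer (E : Set C)).Normal := inferInstance
    obtain ⟨l₀, hl₀, hl₀E⟩ := SetLike.not_le_iff_exists.mp hL
    have himg : (centralizer (E : Set C)).map χ = ⊤ := by
      haveI := hLn.map χ hsurj
      refine (Subgroup.Normal.eq_bot_or_eq_top inferInstance).resolve_left fun hb => hl₀E ?_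
      exact (hker l₀).mp (mem_bot.mp (hb ▸ mem_map_of_mem χ hl₀))
    have hdec : ∀ x : C, ∃ r ∈ E, ∃ l ∈ centralizer (E : Set C), x = r * l := by
      intro x
      obtain ⟨l, hl, hle⟩ : χ x ∈ (centralizer (E : Set C)).map χ := himg ▸ mem_top _
      exact ⟨x * l⁻¹, (hker _).mp (by rw [map_mul, map_inv, hle, mul_inv_cancel]), l, hl, by group⟩
    -- commutators inside a 2-subgroup of `C`
    have hEp : IsPGroup 2 E := hX.1.1
    have hA5two : ∀ (P : Subgroup (alternatingGroup (Fin 5))), IsPGroup 2 P → ∀ a ∈ P, ∀ b ∈ P,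
        a * b = b * a := by
      intro P hP a ha b hb
      obtain ⟨n, hn⟩ := IsPGroup.iff_card.mp hP
      have hd : Nat.card P ∣ 60 := by
        have := card_subgroup_dvd_card P
        rwa [nat_card_alternatingGroup, Nat.card_fin] at this
      have hn2 : n ≤ 2 := by
        by_contra hn3
        push Not at hn3
        have h8 : 2 ^ 3 ∣ 60 := dvd_trans (hn ▸ pow_dvd_pow 2 hn3) hd
        norm_num at h8
      haveI : IsMulCommutative P := by
        interval_cases n
        · haveI : Subsingleton P := (Nat.card_eq_one_iff_unique.mp (show Nat.card P = 1 by rw [hn]; norm_num)).1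
          exact ⟨⟨fun u v => Subsingleton.elim _ _⟩⟩
        · haveI := isCyclic_of_prime_card (p := 2) (show Nat.card P = 2 by rw [hn]; norm_num)
          infer_instance
        · exact IsPGroup.isMulCommutative_of_card_eq_prime_sq (p := 2) hn
      exact congrArg Subtype.val (mul_comm' (⟨a, ha⟩ : P) ⟨b, hb⟩)
    have hcomm : ∀ (T : Subgroup C), IsPGroup 2 T → ∀ a ∈ T, ∀ b ∈ T, ⁅a, b⁆ = 1 ∨ ⁅a, b⁆ = tc := by
      intro T hT a ha b hb
      obtain ⟨r, hr, l, hl, rfl⟩ := hdec a
      obtain ⟨r', hr', l', hl', rfl⟩ := hdec b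
      set T' := T ⊔ E
      have hT' : IsPGroup 2 T' := IsPGroup.to_sup_of_normal_right hT hEp
      have hlT : l ∈ T' := by
        have := mul_mem (inv_mem (mem_sup_right (S := T) hr)) (mem_sup_left (T := E) ha)
        rwa [inv_mul_cancel_left] at this
      have hlT' : l' ∈ T' := by
        have := mul_mem (inv_mem (mem_sup_right (S := T) hr')) (mem_sup_left (T := E) hb)
        rwa [inv_mul_cancel_left] at this
      have hll : ⁅l, l'⁆ ∈ E := (hker _).mp (by
        rw [map_commutatorElement, commutatorElement_eq_one_iff_mul_comm]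
        exact hA5two (T'.map χ) (hT'.map χ) _ (mem_map_of_mem χ hlT) _ (mem_map_of_mem χ hlT'))
      have hrr : ⁅r, r'⁆ ∈ E := by
        rw [commutatorElement_def]
        exact mul_mem (mul_mem (mul_mem hr hr') (inv_mem hr)) (inv_mem hr')
      have h1 : ⁅l, l'⁆ = 1 ∨ ⁅l, l'⁆ = tc := hcen _ hll fun y hy => by
        have hm : ⁅l, l'⁆ ∈ centralizer (E : Set C) := by
          rw [commutatorElement_def]
          exact mul_mem (mul_mem (mul_mem hl hl') (inv_mem hl)) (inv_mem hl')
        exact mem_centralizer_iff.mp hm y hy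
      have h2 : ⁅r, r'⁆ = 1 ∨ ⁅r, r'⁆ = tc := hcen _ hrr fun y hy =>
        congrArg Subtype.val (mem_center_iff.mp
          (H6.extraspecial_commutator_mem_center hX ⟨r, hr⟩ ⟨r', hr'⟩) ⟨y, hy⟩)
      have htt : tc * tc = 1 := Subtype.ext
        (show t * t = 1 by rw [← pow_two, ← htord, pow_orderOf_eq_one])
      have heq : ⁅r * l, r' * l'⁆ = ⁅r, r'⁆ * ⁅l, l'⁆ := by
        have c1 : Commute r l' := mem_centralizer_iff.mp hl' r hr
        have c2 : Commute r' l := mem_centralizer_iff.mp hl r' hr'
        have c3 : Commute ⁅r, r'⁆ l := mem_centralizer_iff.mp hl _ hrr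
        have e1 : ⁅r * l, r' * l'⁆ = r * (⁅l, r'⁆ * (r' * ⁅l, l'⁆ * r'⁻¹)) * r⁻¹ * (⁅r, r'⁆ *
            (r' * ⁅r, l'⁆ * r'⁻¹)) := by
          simp only [commutatorElement_def]; group
        have e2 : r' * ⁅l, l'⁆ * r'⁻¹ = ⁅l, l'⁆ := by
          rcases h1 with h | h <;> rw [h]
          · group
          · rw [htcc, mul_inv_cancel_right]
        rw [e1, commutatorElement_eq_one_iff_commute.mpr c2.symm, one_mul, e2,
          commutatorElement_eq_one_iff_commute.mpr c1, mul_one, mul_inv_cancel, mul_one]
        rcases h1 with h | h <;> rw [h]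
        · group
        · rw [htcc r, mul_inv_cancel_right, htcc]
      rw [heq]
      rcases h1 with h | h <;> rcases h2 with h' | h' <;> rw [h, h'] <;> simp [htt]
    -- a conjugate of `t` in a Sylow subgroup
    obtain ⟨-, P, htP, htPc⟩ := ht
    have hPC : (P : Subgroup G) ≤ C := fun x hx => hC ▸ mem_centralizer_singleton_iff.mpr (htPc x hx)
    obtain ⟨g, hgP, hgne⟩ : ∃ g : G, g * t * g⁻¹ ∈ P ∧ g * t * g⁻¹ ≠ t := by
      by_contra hcon
      push Not at hcon
      have hz := H85.zStar (H85.isolated_of_sylow P htord htP hcon)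
      have hO : Cfsg.pPrimeCore 2 G = ⊥ := by
        refine (Subgroup.Normal.eq_bot_or_eq_top (inferInstance : (Cfsg.pPrimeCore 2 G).Normal)).resolve_right
          fun h => ?_
        have hodd := H85.odd_orderOf_of_mem_core (G := G) (w := t) (h ▸ mem_top t)
        rw [htord] at hodd
        exact absurd hodd (by decide)
      have hcenG : t ∈ center G := mem_center_iff.mpr fun x => by
        have := hz x
        rw [hO, mem_bot, mul_inv_eq_one, mul_inv_eq_iff_eq_mul] at this
        exact this.symm
      have htop : center G = ⊤ :=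
        (Subgroup.Normal.eq_bot_or_eq_top (inferInstance : (center G).Normal)).resolve_left
          fun h => ht1 (mem_bot.mp (h ▸ hcenG))
      refine hl₀E ((hker l₀).mp ?_)
      have hA5c : ∀ a : alternatingGroup (Fin 5), (∀ b, b * a = a * b) → a = 1 := by decide +kernel
      exact hA5c _ fun b => by
        obtain ⟨x, rfl⟩ := hsurj b
        rw [← map_mul, ← map_mul]
        exact congrArg χ (Subtype.ext (mem_center_iff.mp (show (l₀ : G) ∈ center G by rw [htop]; exact mem_top _) (x : G)))
    set s : C := ⟨g * t * g⁻¹, hPC hgP⟩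
    set PC : Subgroup C := (P : Subgroup G).subgroupOf C
    have hPCp : IsPGroup 2 PC := P.isPGroup'.comap_of_injective C.subtype C.subtype_injective
    have hPE : ∀ r ∈ E, ⁅r, s⁆ = 1 ∨ ⁅r, s⁆ = tc := fun r hr =>
      hcomm (PC ⊔ E) (IsPGroup.to_sup_of_normal_right hPCp hEp) r (mem_sup_right hr) s
        (mem_sup_left (show s ∈ PC from hgP))
    let B : Subgroup E := (centralizer ({s} : Set C)).subgroupOf E
    have hB : 16 ≤ Nat.card B := by
      have hmem : ∀ r : E, r ∈ B ↔ ⁅(r : C), s⁆ = 1 := fun r => by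
        rw [mem_subgroupOf, mem_centralizer_singleton_iff, commutatorElement_eq_one_iff_mul_comm]
      by_cases hall : ∀ r : E, r ∈ B
      · rw [(eq_top_iff' B).mpr hall, Subgroup.card_top, hcard]
        norm_num
      · push Not at hall
        obtain ⟨r₀, hr₀⟩ := hall
        have hidx : B.index = 2 := by
          rw [index_eq_two_iff]
          refine ⟨r₀, fun r => ?_⟩
          have hr₀' : ⁅(r₀ : C), s⁆ = tc := (hPE r₀ r₀.2).resolve_left fun h => hr₀ ((hmem r₀).mpr h)
          have hprod : ⁅((r * r₀ : E) : C), s⁆ = tc * ⁅(r : C), s⁆ := by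
            rw [Subgroup.coe_mul, show ⁅(r : C) * r₀, s⁆ = (r : C) * ⁅(r₀ : C), s⁆ * (r : C)⁻¹ * ⁅(r : C), s⁆ by
              simp only [commutatorElement_def]; group, hr₀', htcc, mul_inv_cancel_right]
          rcases hPE r r.2 with h | h
          · exact Or.inr ⟨(hmem r).mpr h, fun h' => by
              rw [hmem, hprod, h, mul_one] at h'
              exact ht1 (congrArg Subtype.val h')⟩
          · refine Or.inl ⟨(hmem _).mpr ?_, fun h' => ?_⟩
            · rw [hprod, h]
              exact Subtype.ext (show t * t = 1 by rw [← pow_two, ← htord, pow_orderOf_eq_one])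
            · rw [hmem, h] at h'
              exact ht1 (congrArg Subtype.val h')
        have := card_mul_index B
        rw [hidx, hcard] at this
        omega
    obtain ⟨x, hx, y, hy, hxy⟩ : ∃ x ∈ B, ∃ y ∈ B, x * y ≠ y * x := by
      by_contra hab
      push Not at hab
      exact absurd (no_abelian_sixteen hX hcard B hab) (by omega)
    have hxyt : ⁅((x : C) : G), ((y : C) : G)⁆ = t := by
      rcases center_cases hX htEc htE1 (H6.extraspecial_commutator_mem_center hX x y) with h | h
      · exact absurd (commutatorElement_eq_one_iff_mul_comm.mp h) hxy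
      · exact congrArg (fun r : E => ((r : C) : G)) h
    -- move to the frame of `s`
    have hmove : ∀ r ∈ B, g⁻¹ * ((r : C) : G) * g ∈ C := by
      intro r hr
      have h1 := congrArg (fun u : C => (u : G))
        (mem_centralizer_singleton_iff.mp (mem_subgroupOf.mp hr))
      simp only [Subgroup.coe_mul, s] at h1
      refine hC.ge (mem_centralizer_singleton_iff.mpr ?_)
      calc g⁻¹ * ((r : C) : G) * g * t = g⁻¹ * (((r : C) : G) * (g * t * g⁻¹)) * g := by group
        _ = g⁻¹ * (g * t * g⁻¹ * ((r : C) : G)) * g := by rw [h1]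
        _ = t * (g⁻¹ * ((r : C) : G) * g) := by group
    let θ : B →* C := MonoidHom.mk' (fun r => ⟨g⁻¹ * (((r : E) : C) : G) * g, hmove r r.2⟩)
      fun r r' => Subtype.ext (by simp only [Subgroup.coe_mul]; group)
    have hθp : IsPGroup 2 θ.range :=
      (hEp.to_subgroup B).of_surjective θ.rangeRestrict θ.rangeRestrict_surjective
    have h5 : g⁻¹ * t * g = 1 ∨ g⁻¹ * t * g = t := by
      have e5 : ((⁅θ ⟨x, hx⟩, θ ⟨y, hy⟩⁆ : C) : G) = g⁻¹ * t * g := by
        rw [← hxyt]
        simp only [θ, MonoidHom.mk'_apply, commutatorElement_def, Subgroup.coe_mul, Subgroup.coe_inv]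
        group
      rcases hcomm θ.range hθp _ ⟨⟨x, hx⟩, rfl⟩ _ ⟨⟨y, hy⟩, rfl⟩ with h | h <;> rw [← e5, h]
      · exact Or.inl rfl
      · exact Or.inr rfl
    rcases h5 with h | h
    · refine ht1 ?_
      calc t = g * (g⁻¹ * t * g) * g⁻¹ := by group
        _ = 1 := by rw [h]; group
    · refine hgne ?_
      calc g * t * g⁻¹ = g * (g⁻¹ * t * g) * g⁻¹ := by rw [h]
        _ = t := by group
  refine ⟨fun A hA => ?_, h2c⟩
  by_contra hbig
  have hA4 : 4 < Nat.card A := by omega
  have hA8 : 8 ≤ Nat.card A := by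
    obtain ⟨i, hi, hi'⟩ := (Nat.dvd_prime_pow Nat.prime_two).mp
      (show Nat.card A ∣ 2 ^ 5 by rw [show (2 : ℕ) ^ 5 = 32 from rfl, ← hcard]; exact card_subgroup_dvd_card A)
    interval_cases i <;> omega
  have h20 := card_invol_of_elementary hX hcard A
    (fun a ha b hb => congrArg Subtype.val (hA.1.1.1 ⟨a, ha⟩ ⟨b, hb⟩))
    (fun a ha => by rw [← pow_two]; exact hA.2 a ha) hA8
  obtain ⟨f, hf⟩ : ∃ f : C, orderOf f = 5 := exists_prime_orderOf_dvd_card' 5 (by
    rw [card_eq_card_quotient_mul_card_subgroup E, Nat.card_congr e.toEquiv, hcard,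
      nat_card_alternatingGroup, Nat.card_fin]
    norm_num)
  let σ : MulAut E := MulAut.conjNormal f
  have hσ5 : σ ^ 5 = 1 := by
    show MulAut.conjNormal f ^ 5 = 1
    rw [← map_pow, ← hf, pow_orderOf_eq_one, map_one]
  -- a fixed involution besides `t`
  haveI := Fintype.ofFinite E
  let I := {q : E // q * q = 1}
  let φ : Function.End I := fun q => ⟨σ q.1, by rw [← map_mul, q.2, map_one]⟩
  have hφ : ∀ (n : ℕ) (q : I), ((φ ^ n) q : E) = (σ ^ n) q.1 := by
    intro n q
    induction n with
    | zero => rfl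
    | succ n ih => rw [pow_succ', pow_succ', MulAut.mul_apply]; exact congrArg σ ih
  have hφ5 : φ ^ 5 ^ 1 = 1 := by
    funext q
    refine Subtype.ext ?_
    rw [pow_one, hφ, hσ5]
    rfl
  have hmod := Equiv.Perm.card_fixedPoints_modEq (f := φ) (p := 5) (n := 1) hφ5
  rw [← Nat.card_eq_fintype_card (α := I), h20, Nat.ModEq] at hmod
  have hfix1 : φ ⟨1, one_mul 1⟩ = ⟨1, one_mul 1⟩ := Subtype.ext (map_one σ)
  set t' : E := ⟨tc, htE⟩
  have hσt : σ t' = t' := Subtype.ext (by
    show f * tc * f⁻¹ = tc
    rw [htcc, mul_inv_cancel_right])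
  have hpos : 0 < Fintype.card φ.fixedPoints :=
    Fintype.card_pos_iff.mpr ⟨⟨⟨1, one_mul 1⟩, hfix1⟩⟩
  have hfive : 5 ≤ Fintype.card φ.fixedPoints := by omega
  obtain ⟨q, hq1, hqt⟩ : ∃ q : φ.fixedPoints, ((q : I) : E) ≠ 1 ∧ ((q : I) : E) ≠ t' := by
    by_contra hno
    push Not at hno
    have : Fintype.card φ.fixedPoints ≤ 2 := by
      rw [← Finset.card_univ]
      refine le_trans (Finset.card_le_card_of_injOn (fun q : φ.fixedPoints => ((q : I) : E))
        (t := ({1, t'} : Finset E)) ?_ ?_) Finset.card_le_two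
      · intro q _
        by_cases h : ((q : I) : E) = 1
        · simp [h]
        · simp [hno q h]
      · exact fun a _ b _ h => Subtype.ext (Subtype.ext h)
    omega
  have hσ := fixed_all hcard σ hσ5 hqt hq1 htE1 (congrArg Subtype.val q.2) hσt
  have hfE : f ∈ E := h2c (mem_centralizer_iff.mpr fun r hr => by
    have := congrArg Subtype.val (DFunLike.congr_fun hσ (⟨r, hr⟩ : E))
    change f * r * f⁻¹ = r at this
    rw [mul_inv_eq_iff_eq_mul] at this
    exact this.symm)
  have h32 : orderOf f ∣ 32 := by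
    rw [← hcard, ← Subgroup.orderOf_mk f hfE]
    exact orderOf_dvd_natCard _
  rw [hf] at h32
  norm_num at h32

/-- Both parts of the reduction. -/
theorem reduce [IsSimpleGroup G] (t : G) (ht : Cfsg.IsTwoCentralInvolution t)
    (E : Subgroup (Subgroup.centralizer ({t} : Set G))) [E.Normal] (hX : Cfsg.IsExtraspecial 2 E)
    (hcard : Nat.card E = 32)
    (e : (Subgroup.centralizer ({t} : Set G)) ⧸ E ≃* alternatingGroup (Fin 5)) :
    (∀ A : Subgroup E, Cfsg.IsElementaryAbelian 2 A → Nat.card A ≤ 2 ^ 2) ∧
      Subgroup.centralizer (E : Set (Subgroup.centralizer ({t} : Set G))) ≤ E :=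
  reduce_aux t ht _ rfl E hX hcard e

end H1.J3
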