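import Cfsg.Agent.H1.J3Syl.Normalizers

/-!
A group of order 4080 with self-centralising subgroups of order 17 is simple.
-/

set_option autoImplicit false

namespace H1.J3

open Subgroup

variable {N : Type*} [Group N] [Finite N]

/-- A normal subgroup of order prime to 17 is trivial. -/
theorem small_normal_eq_bot (hN : Nat.card N = 4080)
    (hC : ∀ y : N, orderOf y = 17 → ∀ x : N, x * y = y * x → x ∈ zpowers y)
    (K : Subgroup N) [K.Normal] (h17 : ¬ 17 ∣ Nat.card K) : K = ⊥ := by
  classical
  haveI : Fact (Nat.Prime 17) := ⟨by norm_num⟩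
  haveI : Fact (Nat.Prime 5) := ⟨by norm_num⟩
  obtain ⟨y, hy⟩ := exists_prime_orderOf_dvd_card' (G := N) 17 (by rw [hN]; norm_num)
  haveI := Fintype.ofFinite K
  -- conjugation by `y` has only one fixed point on `K`
  let f : Function.End K := fun k => MulAut.conjNormal y k
  have hpow : ∀ (n : ℕ) (k : K), (f ^ n) k = (MulAut.conjNormal (y ^ n) : MulAut K) k := by
    intro n k
    induction n with
    | zero => rw [pow_zero, pow_zero, map_one]; rfl
    | succ n ih => rw [pow_succ', pow_succ', map_mul, MulAut.mul_apply]; exact congrArg (MulAut.conjNormal y : MulAut K) ih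
  have hf : f ^ 17 ^ 1 = 1 := by
    funext k
    rw [pow_one, hpow, ← hy, pow_orderOf_eq_one, map_one]
    rfl
  have hfix : Fintype.card f.fixedPoints = 1 := by
    rw [Fintype.card_eq_one_iff]
    refine ⟨⟨1, map_one (MulAut.conjNormal y : MulAut K)⟩, ?_⟩
    rintro ⟨k, hk⟩
    refine Subtype.ext ?_
    have hk' : y * (k : N) * y⁻¹ = k := congrArg Subtype.val hk
    rw [mul_inv_eq_iff_eq_mul] at hk'
    have hmem := hC y hy k hk'.symm
    by_contra hk1
    have hk1' : (k : N) ≠ 1 := fun h => hk1 (Subtype.ext h)
    apply h17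
    have ho : orderOf (k : N) ∣ 17 := by
      rw [← hy, ← Nat.card_zpowers y, ← Subgroup.orderOf_mk (k : N) hmem]
      exact _root_.orderOf_dvd_natCard _
    rcases (Nat.dvd_prime (by norm_num : Nat.Prime 17)).mp ho with h | h
    · exact absurd (orderOf_eq_one_iff.mp h) hk1'
    · rw [← h, Subgroup.orderOf_coe]
      exact _root_.orderOf_dvd_natCard _
  have hmod := Equiv.Perm.card_fixedPoints_modEq (f := f) (p := 17) (n := 1) hf
  rw [hfix, ← Nat.card_eq_fintype_card, Nat.ModEq] at hmod
  have hd : Nat.card K ∣ 240 := by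
    have h1 : Nat.card K ∣ 17 * 240 := by
      rw [show (17 : ℕ) * 240 = 4080 by norm_num, ← hN]
      exact card_subgroup_dvd_card K
    exact ((Nat.Prime.coprime_iff_not_dvd (by norm_num)).mpr h17).symm.dvd_of_dvd_mul_left h1
  have hcases : Nat.card K = 1 ∨ Nat.card K = 120 := by
    have key : ∀ d ∈ Nat.divisors 240, d % 17 = 1 % 17 → d = 1 ∨ d = 120 := by decide +kernel
    exact key _ (Nat.mem_divisors.mpr ⟨hd, by norm_num⟩) hmod
  rcases hcases with h | h
  · exact card_eq_one.mp h
  exfalso
  -- Frattini argument on a Sylow 5-subgroup of `K`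
  obtain ⟨P⟩ : Nonempty (Sylow 5 K) := inferInstance
  set Q : Subgroup N := (P : Subgroup K).map K.subtype with hQ
  have hPc : Nat.card Q = 5 := by
    rw [hQ, card_map_of_injective K.subtype_injective]
    exact J3Syl.card_sylow_eq_prime (by rw [h]; norm_num) (by rw [h]; norm_num) P
  have htop := Sylow.normalizer_sup_eq_top P
  rw [← hQ] at htop
  have hidx : K.index = 34 := by
    have := card_mul_index K
    rw [h, hN] at this
    omega
  have h34 : 34 ∣ Nat.card (normalizer (Q : Set N)) := by
    have hsurj : Function.Surjective ((QuotientGroup.mk' K).comp (normalizer (Q : Set N)).subtype) := by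
      rw [← MonoidHom.range_eq_top, MonoidHom.range_comp, range_subtype]
      have := congrArg (Subgroup.map (QuotientGroup.mk' K)) htop
      rw [Subgroup.map_sup, QuotientGroup.map_mk'_self, sup_bot_eq,
        Subgroup.map_top_of_surjective _ (QuotientGroup.mk'_surjective K)] at this
      exact this
    rw [← hidx, Subgroup.index_eq_card]
    exact card_dvd_of_surjective _ hsurj
  obtain ⟨w, hw⟩ := exists_prime_orderOf_dvd_card' (G := normalizer (Q : Set N)) 17
    (dvd_trans (by norm_num) h34)
  haveI : IsCyclic Q := isCyclic_of_prime_card hPc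
  have h1 : normalizerMonoidHom Q w = 1 := by
    refine orderOf_eq_one_iff.mp (Nat.eq_one_of_dvd_coprimes (a := 17) (b := 4) (by norm_num) ?_ ?_)
    · exact hw ▸ orderOf_map_dvd _ w
    · refine (_root_.orderOf_dvd_natCard _).trans ?_
      rw [IsCyclic.card_mulAut, hPc, Nat.totient_prime (by norm_num)]
  have hker : w ∈ (normalizerMonoidHom Q).ker := h1
  rw [normalizerMonoidHom_ker, mem_subgroupOf] at hker
  obtain ⟨q, hq⟩ := exists_prime_orderOf_dvd_card' (G := Q) 5 (dvd_of_eq hPc.symm)
  have hqw := hC (w : N) (by rw [orderOf_coe, hw]) (q : N) ((mem_centralizer_iff.mp hker) q q.2)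
  have h5 : orderOf (q : N) ∣ 17 := by
    rw [← hw, ← orderOf_coe w, ← Nat.card_zpowers (w : N), ← Subgroup.orderOf_mk (q : N) hqw]
    exact _root_.orderOf_dvd_natCard _
  rw [orderOf_coe, hq] at h5
  norm_num at h5

/-- A group of order 4080 with self-centralising subgroups of order 17 is simple. -/
theorem isSimple_4080 (hN : Nat.card N = 4080)
    (hC : ∀ y : N, orderOf y = 17 → ∀ x : N, x * y = y * x → x ∈ zpowers y) : IsSimpleGroup N := by
  classical
  haveI : Fact (Nat.Prime 17) := ⟨by norm_num⟩
  haveI : Nontrivial N := Finite.one_lt_card_iff_nontrivial.mp (by rw [hN]; norm_num)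
  refine ⟨fun K hK => ?_⟩
  by_cases h17 : 17 ∣ Nat.card K
  swap
  · exact Or.inl (small_normal_eq_bot hN hC K h17)
  right
  have hN2 : ¬ 17 ^ 2 ∣ Nat.card N := by rw [hN]; norm_num
  obtain ⟨P⟩ : Nonempty (Sylow 17 K) := inferInstance
  have hPK : Nat.card (P : Subgroup K) = 17 :=
    J3Syl.card_sylow_eq_prime h17 (fun h => hN2 (h.trans (card_subgroup_dvd_card K))) P
  set Q : Subgroup N := (P : Subgroup K).map K.subtype with hQ
  have hQc : Nat.card Q = 17 := by
    rw [hQ, card_map_of_injective K.subtype_injective]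
    exact hPK
  obtain ⟨y0, hy0⟩ := exists_prime_orderOf_dvd_card' (G := Q) 17 (dvd_of_eq hQc.symm)
  have hyo : orderOf (y0 : N) = 17 := by rw [orderOf_coe, hy0]
  have hQy : Q = zpowers (y0 : N) := J3Syl.eq_zpowers_of_mem hQc y0.2 hyo
  -- the normaliser of `Q`
  have hNQ : Nat.card (normalizer (Q : Set N)) ∣ 17 * 16 := by
    haveI : IsCyclic Q := isCyclic_of_prime_card hQc
    rw [← card_mul_index (normalizerMonoidHom Q).ker, index_ker]
    refine mul_dvd_mul ?_ ?_
    · have hle : (normalizerMonoidHom Q).ker ≤ Q.subgroupOf (normalizer (Q : Set N)) := by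
        rw [normalizerMonoidHom_ker]
        intro x hx
        rw [mem_subgroupOf] at hx ⊢
        refine hQy.ge ?_
        exact hC _ hyo _ ((mem_centralizer_iff.mp hx) _ y0.2).symm
      have := card_dvd_of_le hle
      rwa [Nat.card_congr (subgroupOfEquivOfLe le_normalizer).toEquiv, hQc] at this
    · have h1 := card_subgroup_dvd_card (normalizerMonoidHom Q).range
      rwa [IsCyclic.card_mulAut, hQc, Nat.totient_prime (by norm_num)] at h1
  have htop := Sylow.normalizer_sup_eq_top P
  rw [← hQ] at htop
  have hidx : K.index ∣ Nat.card (normalizer (Q : Set N)) := by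
    have hsurj : Function.Surjective ((QuotientGroup.mk' K).comp (normalizer (Q : Set N)).subtype) := by
      rw [← MonoidHom.range_eq_top, MonoidHom.range_comp, range_subtype]
      have := congrArg (Subgroup.map (QuotientGroup.mk' K)) htop
      rw [Subgroup.map_sup, QuotientGroup.map_mk'_self, sup_bot_eq,
        Subgroup.map_top_of_surjective _ (QuotientGroup.mk'_surjective K)] at this
      exact this
    rw [Subgroup.index_eq_card]
    exact card_dvd_of_surjective _ hsurj
  -- the number of Sylow subgroups
  obtain ⟨Y, hY⟩ := J3Syl.exists_sylow_of_order hN2 hyo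
  have hn : Nat.card (Sylow 17 N) = 120 := by
    have h1 : Nat.card (Sylow 17 N) % 17 = 1 := card_sylow_modEq_one 17 N
    have h2 : Nat.card (Sylow 17 N) = (normalizer (Q : Set N)).index := by
      rw [hQy, ← hY]
      exact Sylow.card_eq_index_normalizer Y
    have h3 := card_mul_index (normalizer (Q : Set N))
    rw [hN, ← h2] at h3
    have h17N : 17 ∣ Nat.card (normalizer (Q : Set N)) := hQc ▸ card_dvd_of_le le_normalizer
    obtain ⟨e, he⟩ := h17N
    rw [he] at hNQ h3
    have he16 : e ∣ 16 := Nat.dvd_of_mul_dvd_mul_left (by norm_num) hNQ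
    have hsd : Nat.card (Sylow 17 N) ∣ 240 := Dvd.intro_left e (by rw [mul_assoc] at h3; omega)
    have key : ∀ d ∈ Nat.divisors 240, d % 17 = 1 → d = 1 ∨ d = 120 := by decide +kernel
    rcases key _ (Nat.mem_divisors.mpr ⟨hsd, by norm_num⟩) h1 with h | h
    · rw [h, mul_one] at h3
      have := Nat.le_of_dvd (by norm_num) he16
      omega
    · exact h
  -- `K` contains all of them, so its index is at most two
  have hnK : Nat.card (Sylow 17 K) = 120 := by
    rw [← hn]
    refine Nat.card_congr (Equiv.ofBijective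
      (fun R : Sylow 17 K => (⟨(R : Subgroup K).map K.subtype, ?_, ?_⟩ : Sylow 17 N)) ⟨?_, ?_⟩)
    · exact R.isPGroup'.map K.subtype
    · intro R' hR' hle
      obtain ⟨S, hS⟩ := hR'.exists_le_sylow
      have h1 : Nat.card (S : Subgroup N) = 17 :=
        J3Syl.card_sylow_eq_prime (by rw [hN]; norm_num) hN2 S
      have h2 : Nat.card ((R : Subgroup K).map K.subtype) = 17 := by
        rw [card_map_of_injective K.subtype_injective]
        exact J3Syl.card_sylow_eq_prime h17 (fun h => hN2 (h.trans (card_subgroup_dvd_card K))) R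
      exact le_antisymm (hS.trans (eq_of_le_of_card_ge (hle.trans hS) (by rw [h1, h2])).ge) hle
    · intro R R' h
      exact Sylow.ext (map_injective K.subtype_injective (congrArg Sylow.toSubgroup h))
    · intro S
      have hSK : (S : Subgroup N) ≤ K := by
        obtain ⟨c, hc⟩ := MulAction.exists_smul_eq N Y S
        rw [← hc, Sylow.coe_subgroup_smul, hY]
        rintro _ ⟨x, hx, rfl⟩
        refine hK.conj_mem x ?_ c
        rw [← hQy] at hx
        exact (map_subtype_le _ : Q ≤ K) hx
      have hS17 : Nat.card (S : Subgroup N) = 17 :=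
        J3Syl.card_sylow_eq_prime (by rw [hN]; norm_num) hN2 S
      obtain ⟨s, hs⟩ := exists_prime_orderOf_dvd_card' (G := (S : Subgroup N)) 17 (dvd_of_eq hS17.symm)
      obtain ⟨R, hR⟩ := J3Syl.exists_sylow_of_order (G := K)
        (fun h => hN2 (h.trans (card_subgroup_dvd_card K))) (x := ⟨s, hSK s.2⟩)
        (show orderOf (⟨(s : N), hSK s.2⟩ : K) = 17 by rw [orderOf_mk, orderOf_coe, hs])
      refine ⟨R, Sylow.ext ?_⟩
      show (R : Subgroup K).map K.subtype = S
      rw [hR, MonoidHom.map_zpowers]
      exact (J3Syl.eq_zpowers_of_mem hS17 s.2 (by rw [orderOf_coe, hs])).symm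
  have hK2040 : 2040 ∣ Nat.card K := by
    have h1 : 120 ∣ Nat.card K := by
      rw [← hnK, Sylow.card_eq_index_normalizer P]
      exact index_dvd_card _
    exact Nat.Coprime.mul_dvd_of_dvd_of_dvd (m := 17) (n := 120) (by norm_num) h17 h1
  obtain ⟨c, hc⟩ := hK2040
  have hc2 : c = 1 ∨ c = 2 := by
    have h1 := card_mul_index K
    rw [hc, hN, mul_assoc] at h1
    have h2 : c ∣ 2 := Dvd.intro K.index (by omega)
    exact (Nat.dvd_prime Nat.prime_two).mp h2
  rcases hc2 with rfl | rfl
  swap
  · exact eq_top_of_card_eq _ (by rw [hc, hN])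
  exfalso
  -- a normal complement inside `K` would be normal in `N`
  have hKN : normalizer ((P : Subgroup K) : Set K) = (P : Subgroup K) := by
    refine (eq_of_le_of_card_ge le_normalizer ?_).symm
    have h1 := card_mul_index (normalizer ((P : Subgroup K) : Set K))
    have h2 : Nat.card (Sylow 17 K) = (normalizer ((P : Subgroup K) : Set K)).index :=
      Sylow.card_eq_index_normalizer P
    rw [← h2, hnK, hc] at h1
    rw [hPK]
    omega
  have hle : normalizer ((P : Subgroup K) : Set K) ≤ centralizer ((P : Subgroup K) : Set K) := by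
    rw [hKN]
    exact J3Syl.isMulCommutative_of_card hPK
  set L := (MonoidHom.transferSylow P hle).ker
  have hLc : L.IsComplement' (P : Subgroup K) := MonoidHom.ker_transferSylow_isComplement' P hle
  have hL : Nat.card L = 120 := by
    have h1 := hLc.card_mul
    rw [hPK, hc] at h1
    omega
  have hLidx : L.index = 17 := by
    have h1 := card_mul_index L
    rw [hL, hc] at h1
    omega
  have hLeq : ∀ x : K, x ∈ L ↔ x ^ 120 = 1 := by
    intro x
    constructor
    · intro hx
      have : orderOf x ∣ 120 := by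
        rw [← hL, ← orderOf_mk x hx]
        exact _root_.orderOf_dvd_natCard _
      exact orderOf_dvd_iff_pow_eq_one.mp this
    · intro hx
      have h1 : x ^ 17 ∈ L := hLidx ▸ pow_index_mem L x
      have h2 : x = (x ^ 17) ^ 113 * ((x ^ 120) ^ 16)⁻¹ := by
        rw [← pow_mul, ← pow_mul, show 17 * 113 = 1 + 120 * 16 by norm_num, pow_add, pow_one,
          mul_inv_cancel_right]
      rw [h2, hx, one_pow, inv_one, mul_one]
      exact pow_mem h1 113
  have hLn : (L.map K.subtype).Normal := ⟨by
    rintro _ ⟨x, hx, rfl⟩ g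
    refine ⟨MulAut.conjNormal g x, (hLeq _).mpr ?_, rfl⟩
    rw [← map_pow, (hLeq x).mp hx, map_one]⟩
  have hbot := small_normal_eq_bot hN hC (L.map K.subtype) (by
    rw [card_map_of_injective K.subtype_injective, hL]; norm_num)
  have h1 := congrArg (fun A : Subgroup N => Nat.card A) hbot
  simp only [card_map_of_injective K.subtype_injective, Subgroup.card_bot, hL] at h1
  omega

end H1.J3
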