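import Cfsg.Agent.H1.J3.SL216Parity
import Cfsg.Agent.H1.J3.SL216Simple
import Cfsg.Agent.H1.J3Syl.Hyp
import Cfsg.Agent.H62.Order4080
import Mathlib.FieldTheory.Finite.GaloisField

/-!
`J₃` contains `SL(2,16):2`.
-/

set_option autoImplicit false

namespace H1.J3

open Subgroup

/-- The centre of `SL₂` in characteristic two is trivial. -/
theorem center_SL2_eq_bot (K : Type*) [Field K] [CharP K 2] :
    center (Matrix.SpecialLinearGroup (Fin 2) K) = ⊥ := by
  rw [eq_bot_iff]
  intro A hA
  obtain ⟨r, hr, hrA⟩ := Matrix.SpecialLinearGroup.mem_center_iff.mp hA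
  rw [Fintype.card_fin] at hr
  have hr1 : r = 1 := by
    have h : (r - 1) ^ 2 = 0 := by rw [sub_sq, hr]; linear_combination (1 - r) * (CharTwo.two_eq_zero : (2 : K) = 0)
    exact sub_eq_zero.mp (pow_eq_zero_iff two_ne_zero |>.mp h)
  rw [mem_bot]
  refine Subtype.ext ?_
  rw [← hrA, hr1, map_one]
  rfl

open H94.J3 in
/-- A group isomorphic to `J₃` has a subgroup `SL(2,16):2`. -/
theorem sl216_of_isoJ3 {G : Type*} [Group G] [Finite G] (h : Cfsg.Spor.IsoJ3 G) :
    ∃ (H : Subgroup G) (N : Subgroup H) (K : Type) (_ : Field K) (_ : Fintype K),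
      N.Normal ∧ N.index = 2 ∧ Fintype.card K = 16 ∧
        Nonempty (N ≃* Matrix.SpecialLinearGroup (Fin 2) K) := by
  classical
  haveI : Fact (Nat.Prime 17) := ⟨by norm_num⟩
  haveI : Fact (Nat.Prime 2) := ⟨Nat.prime_two⟩
  have HG := J3Syl.hyp_of_isoJ3 h
  obtain ⟨K0, _, _, w, hK, hw, ⟨e⟩⟩ := h
  have := charP_two hK
  obtain ⟨D⟩ := nonempty_chain (F := K0) hw
  have key : ∀ T : Subgroup (GL Cfsg.Spor.F9 K0), T = D.G →
      ∀ ε : G ≃* ↥T ⧸ center ↥T, ∃ (H : Subgroup G) (N : Subgroup H),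
        N.Normal ∧ N.index = 2 ∧ Nat.card N = 4080 := by
    rintro T rfl ε
    let θ : D.H →* G := ε.symm.toMonoidHom.comp
      ((QuotientGroup.mk' (center D.G)).comp (Subgroup.inclusion D.H_le))
    have hmemker : ∀ x : D.H, x ∈ θ.ker ↔ Subgroup.inclusion D.H_le x ∈ center D.G := fun x => by
      show ε.symm (QuotientGroup.mk' (center D.G) (Subgroup.inclusion D.H_le x)) = 1 ↔ _
      rw [map_eq_one_iff _ ε.symm.injective]
      exact QuotientGroup.eq_one_iff _
    have hker : Nat.card θ.ker = 3 := by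
      refine Eq.trans ?_ (card_center hw D hK)
      refine Nat.card_congr
        { toFun := fun x => ⟨_, (hmemker x).mp x.2⟩
          invFun := fun z => ⟨⟨((z : D.G) : GL Cfsg.Spor.F9 K0), ?_⟩, ?_⟩
          left_inv := fun x => rfl
          right_inv := fun z => rfl }
      · refine (rho_fix_iff hw D (z : D.G)).mp ?_
        have hz : (z : D.G) ∈ (rho hw D).ker := by rw [rho_ker hw D]; exact z.2
        rw [MonoidHom.mem_ker.mp hz]
        rfl
      · exact (hmemker _).mpr z.2
    obtain ⟨N0, hN0i, hN0n⟩ := exists_index_two hw D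
    have hkN : θ.ker ≤ N0 := by
      intro x hx
      have h3 : x ^ 3 = 1 := by
        have h1 : orderOf (⟨x, hx⟩ : θ.ker) ∣ 3 := (_root_.orderOf_dvd_natCard _).trans hker.dvd
        rw [Subgroup.orderOf_mk] at h1
        exact orderOf_dvd_iff_pow_eq_one.mp h1
      have h2 := pow_index_mem N0 x
      rw [hN0i] at h2
      have h4 : x = (x ^ 2)⁻¹ := eq_inv_of_mul_eq_one_left (by rw [← pow_succ', h3])
      rw [h4]
      exact inv_mem h2
    have hsurj : Function.Surjective θ.rangeRestrict := θ.rangeRestrict_surjective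
    refine ⟨θ.range, N0.map θ.rangeRestrict, hN0n.map _ hsurj, ?_, ?_⟩
    · rw [Subgroup.index_map_eq N0 hsurj (by rw [MonoidHom.ker_rangeRestrict]; exact hkN), hN0i]
    · have hH : Nat.card D.H = 24480 := D.card_H hw
      have h1 := card_mul_index N0
      rw [hN0i, hH] at h1
      have h2 : Nat.card θ.range = 8160 := by
        have h3 := card_mul_index θ.ker
        rw [hker, index_ker, hH] at h3
        omega
      have h3 := card_mul_index (N0.map θ.rangeRestrict)
      rw [Subgroup.index_map_eq N0 hsurj (by rw [MonoidHom.ker_rangeRestrict]; exact hkN), hN0i, h2] at h3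
      omega
  obtain ⟨H, N, hNn, hNi, hNc⟩ := key (Cfsg.Spor.threeJ3 K0 w) (G_eq_threeJ3 hw D).symm e
  have hC : ∀ y : N, orderOf y = 17 → ∀ x : N, x * y = y * x → x ∈ zpowers y := by
    intro y hy x hxy
    have hyG : orderOf (((y : H) : G)) = 17 := by rw [orderOf_coe, orderOf_coe, hy]
    obtain ⟨Y, hY⟩ := J3Syl.exists_sylow_of_order (by rw [HG.card]; norm_num) hyG
    have hxC : ((x : H) : G) ∈ centralizer ((Y : Subgroup G) : Set G) := by
      rw [mem_centralizer_iff, hY]
      rintro _ ⟨i, rfl⟩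
      exact (Commute.zpow_left (show Commute ((y : H) : G) ((x : H) : G) from
        (congrArg (fun z : N => ((z : H) : G)) hxy).symm) i).eq
    have hCY : centralizer ((Y : Subgroup G) : Set G) = Y :=
      (eq_of_le_of_card_ge (J3Syl.isMulCommutative_of_card (HG.seventeen Y).1)
        (by rw [HG.seventeen_cent Y, (HG.seventeen Y).1])).symm
    rw [hCY, hY] at hxC
    obtain ⟨i, hi⟩ := hxC
    exact ⟨i, Subtype.ext (Subtype.ext (by simpa using hi))⟩
  haveI := isSimple_4080 hNc hC
  haveI := Fintype.ofFinite (GaloisField 2 4)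
  have hF : Fintype.card (GaloisField 2 4) = 16 := by
    rw [← Nat.card_eq_fintype_card, GaloisField.card 2 4 (by norm_num)]
    norm_num
  obtain ⟨i⟩ := H62.iso_PSL_of_card_4080 (G := N) hNc hF
  exact ⟨H, N, GaloisField 2 4, inferInstance, inferInstance, hNn, hNi, hF,
    ⟨i.trans ((QuotientGroup.quotientMulEquivOfEq (center_SL2_eq_bot _)).trans
      QuotientGroup.quotientBot)⟩⟩

end H1.J3
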