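import Cfsg.Agent.H94.J3.J3Main

/-!
The certified point stabiliser of `3·J₃` has a subgroup of index two.
-/

set_option autoImplicit false
set_option maxRecDepth 100000

namespace H1.J3

open Cfsg.Spor H94.J3

/-- Parity of the transversal of the two-point stabiliser. -/
def parA (a : ℕ) : Bool := (0x36606e79a5a82da6ad6a4a58cb34cb4b34 : ℕ).testBit a

/-- Parity of the elements of the two-point stabiliser. -/
def parK (m : ℕ) : Bool := (0x4f0607c180fff817f81fcff8007e81e0c1fe179d8626c : ℕ).testBit m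

/-- Parity of the generators of the stabiliser. -/
def genH (k : ℕ) : Bool := k == 1

/-- Parity of the generators of the two-point stabiliser. -/
def genK (k : ℕ) : Bool := k != 0

theorem parity_checks :
    parA 0 = false ∧ parK 0 = false ∧
    ((List.range 3).all fun k => (List.range 180).all fun m => parK (tabK k m) == (genK k ^^ parK m)) = true ∧
    ((List.range 2).all fun k => (List.range 136).all fun a =>
      (parA (tabH k a) ^^ parK (witH k a)) == (genH k ^^ parA a)) = true := by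
  decide +kernel

variable {F : Type*} [Field F] [Finite F] [CharP F 2] {ω : F} (hω : ω ^ 2 + ω + 1 = 0) (C : Chain ω)
include hω

/-- `l` has parity `c` on the two-point stabiliser. -/
def HasParK (l : GL F9 F) (c : Bool) : Prop :=
  ∀ m : Fin 180, ∃ m' : Fin 180, l * C.kk m = C.kk m' ∧ parK m' = (c ^^ parK m)

omit [Finite F] [CharP F 2] hω in
theorem hasParK_mul {l l' : GL F9 F} {c c' : Bool} (h : HasParK C l c) (h' : HasParK C l' c') :
    HasParK C (l * l') (c ^^ c') := by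
  intro m
  obtain ⟨m₁, h1, e1⟩ := h' m
  obtain ⟨m₂, h2, e2⟩ := h m₁
  exact ⟨m₂, by rw [mul_assoc, h1, h2], by rw [e2, e1, Bool.xor_assoc]⟩

theorem exists_parK {l : GL F9 F} (hl : l ∈ C.K') : ∃ c, HasParK C l c := by
  unfold Chain.K' at hl
  rw [← Subgroup.mem_toSubmonoid, Subgroup.closure_toSubmonoid_of_finite] at hl
  induction hl using Submonoid.closure_induction_left with
  | one => exact ⟨false, fun m => ⟨m, one_mul _, (Bool.false_xor _).symm⟩⟩
  | mul_left s hs y _ ih =>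
    obtain ⟨k, rfl⟩ := hs
    obtain ⟨c, hc⟩ := ih
    refine ⟨genK k ^^ c, hasParK_mul C (fun m => ?_) hc⟩
    have h := (low_parts m m.isLt).2.2.2 k
    unfold schK at h
    simp only [Bool.and_eq_true, decide_eq_true_eq] at h
    obtain ⟨hl', he⟩ := h
    refine ⟨⟨tabK k m, hl'⟩, Rep.eq ω ((C.rep_kg k).mul hω (C.rep_kk m)) ?_, ?_⟩
    · rw [eq_of_beq he]
      exact C.rep_kk ⟨_, hl'⟩
    · have h2 := parity_checks.2.2.1
      rw [List.all_eq_true] at h2
      have h3 := h2 k (List.mem_range.mpr k.isLt)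
      rw [List.all_eq_true] at h3
      exact eq_of_beq (h3 m (List.mem_range.mpr m.isLt))

theorem kk_parity (w m : Fin 180) :
    ∃ m', C.kk w * C.kk m = C.kk m' ∧ parK m' = (parK w ^^ parK m) := by
  obtain ⟨c, hc⟩ := exists_parK hω C (show C.kk w ∈ C.K' from C.kk_mem w)
  obtain ⟨m₁, h1, e1⟩ := hc ⟨0, by norm_num⟩
  rw [C.kk_zero, mul_one] at h1
  have hw : w = m₁ := C.kk_injective hω h1
  have hc' : c = parK w := by
    rw [hw, e1]
    show c = (c ^^ parK 0)
    rw [parity_checks.2.1, Bool.xor_false]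
  obtain ⟨m', h2, e2⟩ := hc m
  exact ⟨m', h2, by rw [e2, hc']⟩

/-- `g` has parity `c` on the stabiliser. -/
def HasPar (g : GL F9 F) (c : Bool) : Prop :=
  ∀ (a : Fin 136) (m : Fin 180), ∃ (a' : Fin 136) (m' : Fin 180),
    g * (C.v a * C.kk m) = C.v a' * C.kk m' ∧ (parA a' ^^ parK m') = (c ^^ (parA a ^^ parK m))

omit [Finite F] [CharP F 2] hω in
theorem hasPar_mul {g g' : GL F9 F} {c c' : Bool} (h : HasPar C g c) (h' : HasPar C g' c') :
    HasPar C (g * g') (c ^^ c') := by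
  intro a m
  obtain ⟨a₁, m₁, h1, e1⟩ := h' a m
  obtain ⟨a₂, m₂, h2, e2⟩ := h a₁ m₁
  exact ⟨a₂, m₂, by rw [mul_assoc, h1, h2], by rw [e2, e1, Bool.xor_assoc]⟩

theorem hasPar_gen (k : Fin 2) : HasPar C (C.h k) (genH k) := by
  intro a m
  obtain ⟨hmap, hsch⟩ := (mid_parts a a.isLt).2.2 k
  unfold mapsChk at hmap
  unfold schH at hsch
  simp only [Bool.and_eq_true, decide_eq_true_eq] at hmap hsch
  obtain ⟨hj, -⟩ := hmap
  obtain ⟨hl, he⟩ := hsch
  have h1 : C.h k * C.v a = C.v ⟨tabH k a, hj⟩ * C.kk ⟨witH k a, hl⟩ := by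
    refine Rep.eq ω ((C.rep_h k).mul hω (C.rep_v a)) ?_
    rw [eq_of_beq he]
    exact (C.rep_v ⟨_, hj⟩).mul hω (C.rep_kk ⟨_, hl⟩)
  obtain ⟨m', h2, e2⟩ := kk_parity hω C ⟨witH k a, hl⟩ m
  refine ⟨⟨tabH k a, hj⟩, m', by rw [← mul_assoc, h1, mul_assoc, h2], ?_⟩
  have h3 := parity_checks.2.2.2
  rw [List.all_eq_true] at h3
  have h4 := h3 k (List.mem_range.mpr k.isLt)
  rw [List.all_eq_true] at h4
  have h5 := eq_of_beq (h4 a (List.mem_range.mpr a.isLt))
  rw [e2, ← Bool.xor_assoc]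
  show ((parA (tabH k a) ^^ parK (witH k a)) ^^ parK m) = _
  rw [h5, Bool.xor_assoc]

theorem exists_par {g : GL F9 F} (hg : g ∈ C.H) : ∃ c, HasPar C g c := by
  unfold Chain.H at hg
  rw [← Subgroup.mem_toSubmonoid, Subgroup.closure_toSubmonoid_of_finite] at hg
  induction hg using Submonoid.closure_induction_left with
  | one => exact ⟨false, fun a m => ⟨a, m, one_mul _, (Bool.false_xor _).symm⟩⟩
  | mul_left s hs y _ ih =>
    obtain ⟨k, rfl⟩ := hs
    obtain ⟨c, hc⟩ := ih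
    exact ⟨genH k ^^ c, hasPar_mul C (hasPar_gen hω C k) hc⟩

theorem par_unique {g : GL F9 F} {c c' : Bool} (h : HasPar C g c) (h' : HasPar C g c') : c = c' := by
  obtain ⟨a₁, m₁, h1, e1⟩ := h ⟨0, by norm_num⟩ ⟨0, by norm_num⟩
  obtain ⟨a₂, m₂, h2, e2⟩ := h' ⟨0, by norm_num⟩ ⟨0, by norm_num⟩
  rw [h1] at h2
  have hK : (C.v a₁)⁻¹ * C.v a₂ ∈ C.K' := by
    have h3 : (C.v a₁)⁻¹ * C.v a₂ = C.kk m₁ * (C.kk m₂)⁻¹ := by
      rw [eq_mul_inv_iff_mul_eq, mul_assoc, ← h2, inv_mul_cancel_left]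
    rw [h3]
    exact C.K'.mul_mem (C.kk_mem m₁) (C.K'.inv_mem (C.kk_mem m₂))
  have ha : a₁ = a₂ := by
    have A := C.actH hω
    have h4 := (C.K_fix hω hK).mul (C.v_maps a₁)
    rw [mul_inv_cancel_left] at h4
    exact h4.unique A.rigid (C.v_maps a₂) fun x => A.total _ (C.H.inv_mem (C.v_mem a₂)) x
  subst ha
  have hm : m₁ = m₂ := C.kk_injective hω (mul_left_cancel h2)
  subst hm
  rw [e2] at e1
  exact (Bool.xor_left_inj.mp e1).symm

/-- The even part of the stabiliser. -/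
def evenPart : Subgroup C.H where
  carrier := {g | HasPar C (g : GL F9 F) false}
  one_mem' := fun a m => ⟨a, m, one_mul _, (Bool.false_xor _).symm⟩
  mul_mem' := fun {x y} hx hy => by simpa using hasPar_mul C hx hy
  inv_mem' := fun {x} hx => by
    obtain ⟨c, hc⟩ := exists_par hω C (x⁻¹).2
    have h1 := hasPar_mul C hx hc
    have h2 : HasPar C (1 : GL F9 F) false := fun a m => ⟨a, m, one_mul _, (Bool.false_xor _).symm⟩
    rw [show (x : GL F9 F) * ((x⁻¹ : C.H) : GL F9 F) = 1 by simp] at h1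
    have h3 := par_unique hω C h1 h2
    simp only [Bool.false_xor] at h3
    subst h3
    exact hc

theorem mem_evenPart {g : C.H} : g ∈ evenPart hω C ↔ HasPar C (g : GL F9 F) false := Iff.rfl

/-- The index-two subgroup of the stabiliser. -/
theorem exists_index_two : ∃ N : Subgroup C.H, N.index = 2 ∧ N.Normal := by
  refine ⟨evenPart hω C, ?_⟩
  have h1mem : C.h 1 ∈ C.H := Subgroup.subset_closure ⟨1, rfl⟩
  have hidx : (evenPart hω C).index = 2 := by
    rw [Subgroup.index_eq_two_iff]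
    refine ⟨⟨C.h 1, h1mem⟩, fun b => ?_⟩
    obtain ⟨c, hc⟩ := exists_par hω C b.2
    have h1 : HasPar C (C.h 1) true := hasPar_gen hω C 1
    have hprod : HasPar C ((b * ⟨C.h 1, h1mem⟩ : C.H) : GL F9 F) (c ^^ true) := hasPar_mul C hc h1
    cases c
    · refine Or.inr ⟨(mem_evenPart hω C).mpr hc, fun hb => ?_⟩
      exact Bool.noConfusion (par_unique hω C hprod ((mem_evenPart hω C).mp hb))
    · refine Or.inl ⟨(mem_evenPart hω C).mpr hprod, fun hb => ?_⟩
      exact Bool.noConfusion (par_unique hω C hc ((mem_evenPart hω C).mp hb))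
  exact ⟨hidx, Subgroup.normal_of_index_eq_two hidx⟩

end H1.J3
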