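import Cfsg.Agent.H1.J3Syl.Hyp
import Cfsg.Prelude.Def_Spor_J3

/-!
A simple group with one class of involutions containing a copy of `J₃` which contains an involution
centraliser of order 1920 is that copy.
-/

set_option autoImplicit false

namespace H1.J3

open Subgroup

/-- The possible numbers of Sylow 17-subgroups of a large subgroup of odd order. -/
theorem arith_top : ∀ n ∈ Nat.divisors 23085, n % 17 = 1 → 26163 ≤ 17 * n → False := by
  decide +kernel

/-- `J₃` has no subgroup of odd order at least 26163. -/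
theorem odd_subgroup_lt {M : Type*} [Group M] [Finite M] (H : J3Syl.Hyp M) (D : Subgroup M)
    (hD : ¬ 2 ∣ Nat.card D) : Nat.card D < 26163 := by
  haveI : Fact (Nat.Prime 17) := ⟨by norm_num⟩
  by_contra hbig
  push Not at hbig
  have hd : Nat.card D ∣ 392445 := by
    refine J3Syl.dvd_odd_part (a := 7) ?_ hD
    rw [show (2 : ℕ) ^ 7 * 392445 = 50232960 by norm_num, ← H.card]
    exact card_subgroup_dvd_card D
  by_cases h17 : 17 ∣ Nat.card D
  · obtain ⟨y, hy⟩ := exists_prime_orderOf_dvd_card' (G := D) 17 h17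
    obtain ⟨Y, hY⟩ := J3Syl.exists_sylow_of_order (p := 17) (x := (y : M))
      (by rw [H.card]; norm_num) (by rw [Subgroup.orderOf_coe, hy])
    obtain ⟨hYc, hk, -⟩ := H.seventeen Y
    have hC := H.seventeen_cent Y
    obtain ⟨P⟩ : Nonempty (Sylow 17 D) := inferInstance
    have hP : Nat.card (P : Subgroup D) = 17 :=
      J3Syl.card_sylow_eq_prime h17 (fun h => by
        have := h.trans hd
        norm_num at this) P
    -- all Sylow 17-subgroups are self-normalising in `D`
    obtain ⟨P', hP'⟩ := J3Syl.exists_sylow_of_order (p := 17) (G := D)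
      (fun h => by have := h.trans hd; norm_num at this) hy
    have hN : normalizer ((P' : Subgroup D) : Set D) ≤ (P' : Subgroup D) := by
      intro d hd'
      have hdY : (d : M) ∈ normalizer ((Y : Subgroup M) : Set M) := by
        have key : ∀ a ∈ normalizer ((P' : Subgroup D) : Set D), ∀ z ∈ (Y : Subgroup M),
            (a : M) * z * (a : M)⁻¹ ∈ (Y : Subgroup M) := by
          intro a ha z hz
          rw [hY] at hz ⊢
          obtain ⟨i, rfl⟩ := hz
          obtain ⟨j, hj⟩ : a * y ^ i * a⁻¹ ∈ zpowers y := by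
            rw [← hP']
            exact (mem_normalizer_iff.mp ha _).mp (by rw [hP']; exact ⟨i, rfl⟩)
          exact ⟨j, by simpa using congrArg Subtype.val hj⟩
        rw [mem_normalizer_iff]
        intro z
        refine ⟨key d hd' z, fun hz => ?_⟩
        have := key d⁻¹ (inv_mem hd') _ hz
        simpa [mul_assoc] using this
      set φ := normalizerMonoidHom (Y : Subgroup M)
      have h1 : φ ⟨d, hdY⟩ = 1 := by
        have ha : orderOf (⟨φ ⟨d, hdY⟩, _, rfl⟩ : φ.range) ∣ 8 := hk ▸ _root_.orderOf_dvd_natCard _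
        rw [← orderOf_coe] at ha
        have hb : orderOf (φ ⟨d, hdY⟩) ∣ 392445 := by
          refine (orderOf_map_dvd _ _).trans (dvd_trans ?_ hd)
          rw [Subgroup.orderOf_mk, Subgroup.orderOf_coe]
          exact _root_.orderOf_dvd_natCard _
        exact orderOf_eq_one_iff.mp (Nat.eq_one_of_dvd_coprimes (by norm_num) ha hb)
      have hdC : (d : M) ∈ centralizer ((Y : Subgroup M) : Set M) := by
        have h2 : (⟨d, hdY⟩ : normalizer ((Y : Subgroup M) : Set M)) ∈ φ.ker := h1
        rw [normalizerMonoidHom_ker, mem_subgroupOf] at h2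
        exact h2
      have hCY : centralizer ((Y : Subgroup M) : Set M) = Y :=
        (Subgroup.eq_of_le_of_card_ge (J3Syl.isMulCommutative_of_card hYc) (by rw [hC, hYc])).symm
      rw [hCY, hY] at hdC
      obtain ⟨i, hi⟩ := hdC
      rw [hP']
      exact ⟨i, Subtype.ext (by simpa using hi)⟩
    have hn := card_sylow_modEq_one 17 D
    have hmul := card_mul_index (normalizer ((P' : Subgroup D) : Set D))
    have h6 : Nat.card (Sylow 17 D) = (normalizer ((P' : Subgroup D) : Set D)).index :=
      Sylow.card_eq_index_normalizer P'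
    rw [le_antisymm hN le_normalizer, hP', Nat.card_zpowers, hy] at hmul
    rw [le_antisymm hN le_normalizer, hP'] at h6
    rw [← h6] at hmul
    refine arith_top _ (Nat.mem_divisors.mpr ⟨?_, by norm_num⟩) hn (by omega)
    refine Nat.dvd_of_mul_dvd_mul_left (k := 17) (by norm_num) ?_
    rw [hmul]
    simpa using hd
  · have h3 : Nat.card D ∣ 23085 :=
      ((Nat.Prime.coprime_iff_not_dvd (by norm_num)).mpr h17).symm.dvd_of_dvd_mul_left
        (show Nat.card D ∣ 17 * 23085 by simpa using hd)
    have := Nat.le_of_dvd (by norm_num) h3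
    omega

/-- The involutions of a group with one class, counted from a centraliser. -/
theorem card_invol_mul {G : Type*} [Group G] [Finite G] (z : G) (hz : orderOf z = 2)
    (hone : ∀ x y : G, orderOf x = 2 → orderOf y = 2 → IsConj x y) :
    Nat.card {u : G // orderOf u = 2} * Nat.card (centralizer ({z} : Set G)) = Nat.card G := by
  have h0 := card_mul_index (MulAction.stabilizer (ConjAct G) z)
  rw [MulAction.index_stabilizer, ← Nat.card_coe_set_eq, mul_comm,
    Nat.card_congr ConjAct.ofConjAct.toEquiv] at h0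
  rw [← h0]
  · congr 1
    · refine Nat.card_congr (Equiv.subtypeEquivRight fun u => ?_)
      rw [ConjAct.mem_orbit_conjAct]
      exact ⟨fun hu => (hone z u hz hu).symm, fun hu => by
        obtain ⟨c, hc⟩ := isConj_iff.mp hu.symm
        rw [← hc, J3Syl.orderOf_conjugate, hz]⟩
    · refine (Nat.card_congr (Equiv.subtypeEquiv ConjAct.ofConjAct.toEquiv fun c => ?_)).symm
      rw [MulAction.mem_stabilizer_iff, ConjAct.smul_def, mem_centralizer_singleton_iff]
      exact mul_inv_eq_iff_eq_mul

/-- Module B of the `J₃` recognition. -/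
theorem eq_top_of_J3 {G : Type*} [Group G] [Finite G] [IsSimpleGroup G] (M : Subgroup G)
    (hone : ∀ x y : G, orderOf x = 2 → orderOf y = 2 → IsConj x y)
    (honeM : ∀ x y : M, orderOf x = 2 → orderOf y = 2 → IsConj x y) (z : G) (hz : orderOf z = 2)
    (hzM : z ∈ M) (hcent : centralizer ({z} : Set G) ≤ M)
    (hcardC : Nat.card (centralizer ({z} : Set G)) = 1920) (hJ : Cfsg.Spor.IsoJ3 M) : M = ⊤ := by
  classical
  by_contra hne
  have H := J3Syl.hyp_of_isoJ3 hJ
  -- `M` contains the centraliser of each of its involutions, and controls their fusion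
  have hconj : ∀ y ∈ M, orderOf y = 2 → ∃ m ∈ M, m * z * m⁻¹ = y := by
    intro y hy hy2
    obtain ⟨c, hc⟩ := isConj_iff.mp (honeM ⟨z, hzM⟩ ⟨y, hy⟩ (by rw [Subgroup.orderOf_mk, hz])
      (by rw [Subgroup.orderOf_mk, hy2]))
    exact ⟨c, c.2, congrArg Subtype.val hc⟩
  have hse : ∀ g : G, ∀ y ∈ M, orderOf y = 2 → g⁻¹ * y * g ∈ M → g ∈ M := by
    intro g y hy hy2 hgy
    obtain ⟨m, hm, hmy⟩ := hconj y hy hy2
    obtain ⟨n, hn, hny⟩ := hconj _ hgy (by
      have := J3Syl.orderOf_conjugate g⁻¹ y
      rw [inv_inv] at this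
      rw [this, hy2])
    have hC : m⁻¹ * g * n ∈ centralizer ({z} : Set G) := by
      rw [mem_centralizer_singleton_iff]
      have h1 : g * (n * z * n⁻¹) * g⁻¹ = m * z * m⁻¹ := by rw [hny, hmy]; group
      calc m⁻¹ * g * n * z = m⁻¹ * (g * (n * z * n⁻¹) * g⁻¹) * g * n := by group
        _ = m⁻¹ * (m * z * m⁻¹) * g * n := by rw [h1]
        _ = z * (m⁻¹ * g * n) := by group
    have := mul_mem (mul_mem hm (hcent hC)) (inv_mem hn)
    simpa [mul_assoc] using this
  -- counting involutions by cosets
  haveI := Fintype.ofFinite G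
  haveI := Fintype.ofFinite (G ⧸ M)
  have hG := card_invol_mul z hz hone
  rw [hcardC, ← card_mul_index M, H.card] at hG
  set s := (Finset.univ : Finset G).filter fun u => orderOf u = 2 ∧ u ∉ M with hs
  have hin : ((Finset.univ : Finset G).filter fun u => orderOf u = 2 ∧ u ∈ M).card = 26163 := by
    rw [← Fintype.card_subtype, ← Nat.card_eq_fintype_card]
    have h1 := card_invol_mul (⟨z, hzM⟩ : M) (by rw [Subgroup.orderOf_mk, hz]) honeM
    rw [H.cent _ (by rw [Subgroup.orderOf_mk, hz]), H.card] at h1
    have h2 : Nat.card {u : G // orderOf u = 2 ∧ u ∈ M} = Nat.card {u : M // orderOf u = 2} :=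
      Nat.card_congr
        { toFun := fun u => ⟨⟨u.1, u.2.2⟩, by rw [Subgroup.orderOf_mk]; exact u.2.1⟩
          invFun := fun u => ⟨u.1.1, by rw [Subgroup.orderOf_coe]; exact u.2, u.1.2⟩
          left_inv := fun u => rfl
          right_inv := fun u => rfl }
    omega
  have hscard : s.card + 26163 = 26163 * M.index := by
    have h1 := Finset.card_filter_add_card_filter_not
      (s := (Finset.univ : Finset G).filter fun u => orderOf u = 2) (fun u => u ∈ M)
    rw [Finset.filter_filter, Finset.filter_filter, hin, ← hs] at h1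
    have h2 : ((Finset.univ : Finset G).filter fun u => orderOf u = 2).card =
        Nat.card {u : G // orderOf u = 2} := by
      rw [Nat.card_eq_fintype_card, Fintype.card_subtype]
    omega
  set T := (Finset.univ : Finset (G ⧸ M)).erase (QuotientGroup.mk (1 : G)) with hT
  have hidx : 2 ≤ M.index := by
    have h0 : M.index ≠ 0 := index_ne_zero_of_finite
    have h1 : M.index ≠ 1 := fun h => hne (index_eq_one.mp h)
    omega
  have hTcard : T.card + 1 = M.index := by
    rw [hT, Finset.card_erase_of_mem (Finset.mem_univ _), Finset.card_univ, ← Nat.card_eq_fintype_card,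
      ← Subgroup.index_eq_card]
    omega
  obtain ⟨q, hqT, hq⟩ : ∃ q ∈ T, 26163 ≤ (s.filter fun u => QuotientGroup.mk (s := M) u = q).card := by
    refine Finset.exists_le_card_fiber_of_mul_le_card_of_maps_to
      (f := fun u : G => (QuotientGroup.mk (s := M) u)) ?_ ?_ ?_
    · intro u hu
      simp only [hs, Finset.mem_filter, Finset.mem_univ, true_and] at hu
      refine Finset.mem_erase.mpr ⟨fun h => hu.2 ?_, Finset.mem_univ _⟩
      have := QuotientGroup.eq.mp h
      simpa using this
    · rw [← Finset.card_pos]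
      omega
    · nlinarith
  obtain ⟨i, hi⟩ : ∃ i, i ∈ s.filter fun u => QuotientGroup.mk (s := M) u = q :=
    Finset.card_pos.mp (by omega)
  simp only [hs, Finset.mem_filter, Finset.mem_univ, true_and] at hi
  obtain ⟨⟨hi2, hiM⟩, hiq⟩ := hi
  have hii : i * i = 1 := by rw [← pow_two, ← hi2, pow_orderOf_eq_one]
  have hinv : i⁻¹ = i := inv_eq_of_mul_eq_one_right hii
  let D : Subgroup M := (M.map (MulAut.conj i).toMonoidHom).subgroupOf M
  have hodd : ¬ 2 ∣ Nat.card D := by
    intro h
    haveI : Fact (Nat.Prime 2) := ⟨Nat.prime_two⟩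
    obtain ⟨d, hd⟩ := exists_prime_orderOf_dvd_card' (G := D) 2 h
    obtain ⟨m, hm, hmd⟩ := d.2
    refine hiM (hse i ((d : M) : G) (d : M).2 (by rw [Subgroup.orderOf_coe, Subgroup.orderOf_coe, hd]) ?_)
    have : i⁻¹ * ((d : M) : G) * i = m := by
      rw [← show i * m * i⁻¹ = ((d : M) : G) from hmd]; group
    rw [this]
    exact hm
  have hbig : 26163 ≤ Nat.card D := by
    refine le_trans hq ?_
    rw [← Nat.card_eq_finsetCard]
    have key : ∀ j ∈ s.filter (fun u => QuotientGroup.mk (s := M) u = q),
        ∃ h : i * j ∈ M, (⟨i * j, h⟩ : M) ∈ D := by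
      intro j hj
      simp only [hs, Finset.mem_filter, Finset.mem_univ, true_and] at hj
      have hjj : j * j = 1 := by rw [← pow_two, ← hj.1.1, pow_orderOf_eq_one]
      have h1 : i⁻¹ * j ∈ M := QuotientGroup.eq.mp (hiq.trans hj.2.symm)
      rw [hinv] at h1
      refine ⟨h1, ⟨(i * j)⁻¹, inv_mem h1, ?_⟩⟩
      show i * (i * j)⁻¹ * i⁻¹ = i * j
      rw [mul_inv_rev, inv_eq_of_mul_eq_one_right hjj, hinv]
      calc i * (j * i) * i = i * j * (i * i) := by group
        _ = i * j := by rw [hii, mul_one]
    refine Nat.card_le_card_of_injective (fun j => ⟨⟨i * j.1, (key j.1 j.2).fst⟩, (key j.1 j.2).snd⟩) ?_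
    intro a b hab
    have := congrArg (fun x : D => ((x : M) : G)) hab
    exact Subtype.ext (mul_left_cancel this)
  exact absurd (odd_subgroup_lt H D hodd) (not_lt.mpr hbig)

end H1.J3
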