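import Cfsg.Agent.H1.J3.Reduce
import Cfsg.Agent.H1.J3Syl.Hyp
import Cfsg.Agent.H36.J2U.Simple
import Cfsg.Agent.S1619
import Cfsg.Agent.S1620
import Cfsg.Prelude.Def_Sporadic
import Cfsg.Prelude.Def_Spor_J3

/-!
Consequences of the recognition of `J₃` from its involution centraliser.
-/

set_option autoImplicit false

namespace H1.J3

open Subgroup

universe u

/-- The recognition of `J₃`, as a hypothesis. -/
def Recognition : Prop :=
  ∀ {G : Type u} [Group G] [Finite G] [IsSimpleGroup G] (t : G), orderOf t = 2 →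
    ∀ (Q : Subgroup (Subgroup.centralizer ({t} : Set G))) [Q.Normal], Cfsg.IsExtraspecial 2 Q →
    Nat.card Q = 32 → (∀ E : Subgroup Q, Cfsg.IsElementaryAbelian 2 E → Nat.card E ≤ 2 ^ 2) →
    Subgroup.centralizer (Q : Set (Subgroup.centralizer ({t} : Set G))) ≤ Q →
    ((Subgroup.centralizer ({t} : Set G)) ⧸ Q ≃* alternatingGroup (Fin 5)) →
    (∀ x y : G, orderOf x = 2 → orderOf y = 2 → IsConj x y) → Cfsg.Spor.IsoJ3 G

theorem twoCentral_of_one_class {G : Type*} [Group G] [Finite G] (t : G) (ht : orderOf t = 2)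
    (hone : ∀ x y : G, orderOf x = 2 → orderOf y = 2 → IsConj x y) : Cfsg.IsTwoCentralInvolution t := by
  haveI : Fact (Nat.Prime 2) := ⟨Nat.prime_two⟩
  obtain ⟨P⟩ : Nonempty (Sylow 2 G) := inferInstance
  have h2 : 2 ∣ Nat.card G := ht ▸ orderOf_dvd_natCard t
  haveI : Nontrivial (P : Subgroup G) :=
    Finite.one_lt_card_iff_nontrivial.mp
      (lt_of_lt_of_le one_lt_two (Nat.le_of_dvd Nat.card_pos (P.dvd_card_of_dvd_card h2)))
  haveI := P.isPGroup'.center_nontrivial
  have hc2 : 2 ∣ Nat.card (center (P : Subgroup G)) := by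
    obtain ⟨n, hn⟩ := IsPGroup.iff_card.mp (P.isPGroup'.to_subgroup (center (P : Subgroup G)))
    rw [hn]
    refine dvd_pow_self 2 fun h => ?_
    rw [h, pow_zero] at hn
    exact absurd hn (Finite.one_lt_card_iff_nontrivial.mpr inferInstance).ne'
  obtain ⟨z, hz⟩ := exists_prime_orderOf_dvd_card' 2 hc2
  obtain ⟨c, hc⟩ := isConj_iff.mp (hone ((z : (P : Subgroup G)) : G) t
    (by rw [orderOf_coe, orderOf_coe, hz]) ht)
  refine ⟨ht, c • P, ?_, fun x hx => ?_⟩
  · show t ∈ ((c • P : Sylow 2 G) : Subgroup G)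
    rw [Sylow.coe_subgroup_smul]
    exact ⟨_, (z : (P : Subgroup G)).2, hc⟩
  · have hx' : x ∈ ((c • P : Sylow 2 G) : Subgroup G) := hx
    rw [Sylow.coe_subgroup_smul] at hx'
    obtain ⟨y, hy, rfl⟩ := hx'
    have hzy : y * ((z : (P : Subgroup G)) : G) = ((z : (P : Subgroup G)) : G) * y :=
      congrArg Subtype.val (mem_center_iff.mp z.2 ⟨y, hy⟩)
    rw [← hc]
    show c * y * c⁻¹ * (c * ((z : (P : Subgroup G)) : G) * c⁻¹) =
      c * ((z : (P : Subgroup G)) : G) * c⁻¹ * (c * y * c⁻¹)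
    calc c * y * c⁻¹ * (c * ((z : (P : Subgroup G)) : G) * c⁻¹)
        = c * (y * ((z : (P : Subgroup G)) : G)) * c⁻¹ := by group
      _ = c * (((z : (P : Subgroup G)) : G) * y) * c⁻¹ := by rw [hzy]
      _ = c * ((z : (P : Subgroup G)) : G) * c⁻¹ * (c * y * c⁻¹) := by group

variable {G : Type u} [Group G] [Finite G] [IsSimpleGroup G]

theorem isoJ3_of_one_class (R : Recognition.{u})
    (hone : ∀ x y : G, orderOf x = 2 → orderOf y = 2 → IsConj x y) (t : G) (ht : orderOf t = 2)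
    (E : Subgroup (Subgroup.centralizer ({t} : Set G))) [E.Normal] (hE : Nat.card E = 32)
    (hX : Cfsg.IsExtraspecial 2 E)
    (e : (Subgroup.centralizer ({t} : Set G)) ⧸ E ≃* alternatingGroup (Fin 5)) : Cfsg.Spor.IsoJ3 G := by
  obtain ⟨hminus, h2c⟩ := reduce t (twoCentral_of_one_class t ht hone) E hX hE e
  exact R t ht E hX hE hminus h2c e hone

/-- Order of Janko's third group. -/
theorem isJ3_of_one_class (R : Recognition.{u})
    (hone : ∀ x y : G, orderOf x = 2 → orderOf y = 2 → IsConj x y) (t : G) (ht : orderOf t = 2)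
    (E : Subgroup (Subgroup.centralizer ({t} : Set G))) [E.Normal] (hE : Nat.card E = 32)
    (hX : Cfsg.IsExtraspecial 2 E)
    (e : (Subgroup.centralizer ({t} : Set G)) ⧸ E ≃* alternatingGroup (Fin 5)) : Cfsg.IsJ3 G :=
  ⟨inferInstance, (J3Syl.of_isoJ3 (isoJ3_of_one_class R hone t ht E hE hX e)).1⟩

/-- Orders of Janko's second and third groups. -/
theorem isJ2_or_isJ3 (R : Recognition.{u}) (t : G) (ht : Cfsg.IsTwoCentralInvolution t)
    (E : Subgroup (Subgroup.centralizer ({t} : Set G))) [E.Normal] (hE : Nat.card E = 32)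
    (hX : Cfsg.IsExtraspecial 2 E)
    (e : (Subgroup.centralizer ({t} : Set G)) ⧸ E ≃* alternatingGroup (Fin 5)) :
    Cfsg.IsJ2 G ∨ Cfsg.IsJ3 G := by
  by_cases hone : ∀ x y : G, orderOf x = 2 → orderOf y = 2 → IsConj x y
  · exact Or.inr (isJ3_of_one_class R hone t ht.1 E hE hX e)
  · push Not at hone
    obtain ⟨hminus, h2c⟩ := reduce t ht E hX hE e
    obtain ⟨x, y, hx, hy, hxy⟩ := hone
    obtain ⟨i⟩ := H36.J2U.isoJ2_of_simple t ht.1 E hX hE hminus h2c e ⟨x, y, hx, hy, hxy⟩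
    exact Or.inl ⟨inferInstance, (Nat.card_congr i.toEquiv).trans Cfsg.Agent.S1619.result.2.2.2⟩

/-- Sylow normalisers in groups of `J₃` type. -/
theorem sylow_normalisers (R : Recognition.{u})
    (hone : ∀ x y : G, orderOf x = 2 → orderOf y = 2 → IsConj x y) (t : G) (ht : orderOf t = 2)
    (E A : Subgroup (Subgroup.centralizer ({t} : Set G))) [E.Normal] (hX : Cfsg.IsExtraspecial 2 E)
    (hE : Nat.card E = 32) (hEA : E.IsComplement' A) (eA : A ≃* alternatingGroup (Fin 5)) :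
    J3Syl.Hyp G :=
  J3Syl.hyp_of_isoJ3 (isoJ3_of_one_class R hone t ht E hE hX
    (hEA.symm.QuotientMulEquiv.trans eA))

end H1.J3
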